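import Cfsg.Agent.Lib.Spor.Fi22.SeventyEight.Words

/-!
The squares and the pairwise relators.
-/

set_option autoImplicit false
set_option maxRecDepth 100000
set_option maxHeartbeats 0

namespace CfsgLib.Spor.Fi22.SeventyEight

theorem squares_check : ((List.range 9).all fun k => trivOK [k, k]) = true := by decide +kernel

theorem group0 : groupOK 0 6 = true := by decide +kernel

theorem group6 : groupOK 6 6 = true := by decide +kernel

theorem group12 : groupOK 12 6 = true := by decide +kernel

theorem group18 : groupOK 18 6 = true := by decide +kernel

theorem group24 : groupOK 24 6 = true := by decide +kernel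

theorem group30 : groupOK 30 6 = true := by decide +kernel

end CfsgLib.Spor.Fi22.SeventyEight
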