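import Cfsg.Agent.Lib.Spor.Fi22.SeventyEight.Words

/-!
The spider relator.
-/

set_option autoImplicit false
set_option maxRecDepth 100000
set_option maxHeartbeats 0

namespace CfsgLib.Spor.Fi22.SeventyEight

theorem group36 : groupOK 36 1 = true := by decide +kernel

end CfsgLib.Spor.Fi22.SeventyEight
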