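import Cfsg.Agent.Lib.Spor.Fi22.SeventyEight.Data

/-!
The constants are right and the matrices are reduced.
-/

set_option autoImplicit false
set_option maxRecDepth 100000

namespace CfsgLib.Spor.Fi22.SeventyEight

open CfsgLib.Spor

theorem masks_check : ctx.col * (2 ^ (16 * ctx.n) - 1) = 65535 * (2 ^ (16 * ctx.n * ctx.n) - 1) ∧
    ctx.even * (2 ^ 32 - 1) = 65535 * (2 ^ (32 * ctx.K) - 1) ∧
    ctx.top * (2 ^ 32 - 1) = 4293918720 * (2 ^ (32 * ctx.K) - 1) := by
  decide +kernel

theorem id_check : idMat * (2 ^ (16 * (ctx.n + 1)) - 1) = 1 * (2 ^ (16 * (ctx.n + 1) * ctx.n) - 1) := by decide +kernel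

theorem recip_check : ((List.range 11233).all fun a =>
    Nat.beq (a * ctx.m / 1048576) (a / ctx.p) && Nat.blt (a * ctx.m) (2 ^ 32)) = true := by
  decide +kernel

theorem mat0_check : PackedMat.rowsOK ctx.n ctx.p mat0 = true := by decide +kernel

theorem mat1_check : PackedMat.rowsOK ctx.n ctx.p mat1 = true := by decide +kernel

theorem mat2_check : PackedMat.rowsOK ctx.n ctx.p mat2 = true := by decide +kernel

theorem mat3_check : PackedMat.rowsOK ctx.n ctx.p mat3 = true := by decide +kernel

theorem mat4_check : PackedMat.rowsOK ctx.n ctx.p mat4 = true := by decide +kernel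

theorem mat5_check : PackedMat.rowsOK ctx.n ctx.p mat5 = true := by decide +kernel

theorem mat6_check : PackedMat.rowsOK ctx.n ctx.p mat6 = true := by decide +kernel

theorem mat7_check : PackedMat.rowsOK ctx.n ctx.p mat7 = true := by decide +kernel

theorem mat8_check : PackedMat.rowsOK ctx.n ctx.p mat8 = true := by decide +kernel

theorem mats_check : mats.length = 9 ∧ mats.all (PackedMat.rowsOK ctx.n ctx.p) = true := by
  refine ⟨rfl, List.all_eq_true.2 fun R hR => ?_⟩
  simp only [mats, List.mem_cons, List.not_mem_nil, or_false] at hR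
  rcases hR with rfl | rfl | rfl | rfl | rfl | rfl | rfl | rfl | rfl
  exacts [mat0_check, mat1_check, mat2_check, mat3_check, mat4_check, mat5_check, mat6_check, mat7_check, mat8_check]

theorem valid : ctx.Valid where
  pos := by decide +kernel
  K_le := by decide +kernel
  col_eq := PackedMat.col_of_const (by decide +kernel) masks_check.1
  even_eq := PackedMat.pk_const (by decide) masks_check.2.1
  top_eq := PackedMat.pk_const (by decide) masks_check.2.2
  small := by decide +kernel
  recip a ha := by
    have h := List.all_eq_true.1 recip_check a (List.mem_range.2 (Nat.lt_succ_of_le ha))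
    simp only [Bool.and_eq_true] at h
    exact ⟨Nat.eq_of_beq_eq_true h.1, Nat.le_of_ble_eq_true h.2⟩

theorem scalar_enc (s : ℕ) : PackedMat.enc ctx (PackedMat.scal s) = idMat * s :=
  PackedMat.scalar_of_const valid.pos id_check s

end CfsgLib.Spor.Fi22.SeventyEight
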