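import Cfsg.Agent.Lib.Spor.Fi22.SeventyEight.DataCheck
import Cfsg.Agent.Lib.Spor.Fi22.SeventyEight.CheckPairs
import Cfsg.Agent.Lib.Spor.Fi22.SeventyEight.CheckSpider
import Cfsg.Agent.Lib.Spor.Fi22.SeventyEight.CheckLong
import Cfsg.Agent.Lib.Spor.Fi22.Cox
import Cfsg.Agent.Lib.Spor.Fi22.Order

/-!
The presented Fischer group embeds in the matrices of size 78 over thirteen elements.
-/

set_option autoImplicit false
set_option maxRecDepth 100000

namespace CfsgLib.Spor.Fi22.SeventyEight

open CfsgLib.Spor.TC Matrix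

attribute [local irreducible] PackedMat.through PackedMat.matOf mats idMat relsG

local notation "Sq" => Matrix (Fin 78) (Fin 78) (ZMod 13)

/-- A generator. -/
noncomputable def mat (k : ℕ) : Sq := PackedMat.matOf 78 13 (mats.getD k [])

theorem triv_spec {w : List ℕ} (hw : ∀ k ∈ w, k < 9) (h : trivOK w = true) : (w.map mat).prod = 1 := by
  obtain ⟨hl, hr⟩ := mats_check
  have hMs : ∀ k < mats.length, PackedMat.rowsOK ctx.n ctx.p (mats.getD k []) = true := fun k hk => by
    rw [List.getD_eq_getElem _ _ hk]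
    exact List.all_eq_true.1 hr _ (List.getElem_mem _)
  have e := PackedMat.word_eq_scalar valid (show 1 < 13 by norm_num) (show 13 ≤ 65536 by norm_num) hMs
    (fun k hk => hl.symm ▸ hw k hk) (s := 1) (show 1 < 13 by norm_num)
    (by rw [scalar_enc, mul_one]; exact Nat.eq_of_beq_eq_true h)
  rw [Nat.cast_one, one_smul] at e
  exact e

theorem square_spec (k : ℕ) (hk : k < 9) : mat k * mat k = 1 := by
  have := triv_spec (w := [k, k]) (fun j hj => by simp at hj; omega)
    (List.all_eq_true.1 squares_check k (List.mem_range.2 hk))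
  simpa using this

theorem rels_count : relsG.length = 39 ∧
    ∀ r : Fin 39, ∀ k ∈ powWord (relsG.getD r.1 ([], 0)).1 (relsG.getD r.1 ([], 0)).2, k < 9 := by
  decide +kernel

theorem rel_spec (r : ℕ) (hr : r < 39) :
    ((powWord (relsG.getD r ([], 0)).1 (relsG.getD r ([], 0)).2).map mat).prod = 1 := by
  refine triv_spec (rels_count.2 ⟨r, hr⟩) ?_
  have key : ∀ a n, groupOK a n = true → a ≤ r → r < a + n →
      trivOK (powWord (relsG.getD r ([], 0)).1 (relsG.getD r ([], 0)).2) = true :=
    fun a n h h1 h2 => List.all_eq_true.1 h r (List.mem_range'_1.2 ⟨h1, h2⟩)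
  rcases Nat.lt_or_ge r 6 with h | g0
  · exact key 0 6 group0 (Nat.zero_le _) h
  rcases Nat.lt_or_ge r 12 with h | g1
  · exact key 6 6 group6 g0 h
  rcases Nat.lt_or_ge r 18 with h | g2
  · exact key 12 6 group12 g1 h
  rcases Nat.lt_or_ge r 24 with h | g3
  · exact key 18 6 group18 g2 h
  rcases Nat.lt_or_ge r 30 with h | g4
  · exact key 24 6 group24 g3 h
  rcases Nat.lt_or_ge r 36 with h | g5
  · exact key 30 6 group30 g4 h
  rcases Nat.lt_or_ge r 37 with h | g6
  · exact key 36 1 group36 g5 h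
  rcases Nat.lt_or_ge r 38 with h | g7
  · exact key 37 1 group37 g6 h
  exact key 38 1 group38 g7 hr

theorem entry_check : ((List.range 78).any fun j =>
    !Nat.beq (PackedMat.entry ((mats.getD 0 []).getD j 0) j) 1) = true ∧
    ∀ j : Fin 78, PackedMat.entry ((mats.getD 0 []).getD j.1 0) j.1 < 13 := by
  decide +kernel

theorem mat_ne : mat 0 ≠ 1 := by
  intro h
  obtain ⟨h1, h2⟩ := entry_check
  obtain ⟨j, hj, hne⟩ := List.any_eq_true.1 h1
  have hj' := List.mem_range.1 hj
  have e := congrArg (fun A : Sq => A ⟨j, hj'⟩ ⟨j, hj'⟩) h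
  simp only [mat, PackedMat.matOf, Matrix.of_apply, Matrix.one_apply_eq] at e
  have e' := congrArg ZMod.val e
  rw [ZMod.val_natCast, Nat.mod_eq_of_lt (h2 ⟨j, hj'⟩)] at e'
  rw [e', ZMod.val_one_eq_one_mod] at hne
  simp at hne

/-- The generators in the general linear group. -/
noncomputable def glGen (k : ℕ) : GL (Fin 78) (ZMod 13) :=
  if h : k < 9 then ⟨mat k, mat k, square_spec k h, square_spec k h⟩ else 1

theorem gl_word : ∀ w : List ℕ, (∀ k ∈ w, k < 9) → ((ev glGen w : GL (Fin 78) (ZMod 13)) : Sq) = (w.map mat).prod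
  | [], _ => by simp [ev]
  | a :: w, hw => by
    rw [ev_cons, Units.val_mul, gl_word w fun k hk => hw k (List.mem_cons_of_mem _ hk), List.map_cons, List.prod_cons]
    simp [glGen, hw a List.mem_cons_self]

theorem gl_sat : Sat 9 relsG glGen := by
  refine ⟨fun x => ?_, fun x hx => dif_neg (by omega), fun r hr => ?_⟩
  · by_cases hx : x < 9
    · refine Units.ext ?_
      simp only [glGen, dif_pos hx, Units.val_mul, Units.val_one]
      exact square_spec x hx
    · simp [glGen, hx]
  · obtain ⟨i, hi, rfl⟩ := List.mem_iff_getElem.1 hr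
    have hi' : i < 39 := rels_count.1 ▸ hi
    have hr' : relsG[i] = relsG.getD i ([], 0) := (List.getD_eq_getElem _ _ hi).symm
    rw [hr', ← ev_powWord]
    refine Units.ext ?_
    rw [gl_word _ (rels_count.2 ⟨i, hi'⟩), rel_spec i hi', Units.val_one]

theorem main : ∃ f : Cfsg.Spor.Fi22 →* GL (Fin 78) (ZMod 13), Function.Injective f := by
  obtain ⟨e, -⟩ := exists_equiv_gen
  have : IsSimpleGroup (Pres 9 relsG) := simple_fi22
  have hne : (presHom gl_sat).ker ≠ ⊤ := by
    intro h
    have h0 : presHom gl_sat (presGen 9 relsG 0) = 1 := MonoidHom.mem_ker.1 (h ▸ Subgroup.mem_top _)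
    rw [presHom_gen] at h0
    have h1 := congrArg (fun u : GL (Fin 78) (ZMod 13) => (u : Sq)) h0
    simp only [glGen, show (0 : ℕ) < 9 by norm_num, dif_pos, Units.val_one] at h1
    exact mat_ne h1
  have hker := (IsSimpleGroup.eq_bot_or_eq_top_of_normal (presHom gl_sat).ker inferInstance).resolve_right hne
  exact ⟨(presHom gl_sat).comp e.symm.toMonoidHom,
    ((MonoidHom.ker_eq_bot_iff _).1 hker).comp e.symm.injective⟩

end CfsgLib.Spor.Fi22.SeventyEight
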