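import Cfsg.Agent.Lib.Spor.Fi22.SeventyEight.Data
import Cfsg.Agent.Lib.Spor.Fi22.Rels

/-!
The checks on the nine matrices.
-/

set_option autoImplicit false
set_option maxRecDepth 100000
set_option maxHeartbeats 0

namespace CfsgLib.Spor.Fi22.SeventyEight

open CfsgLib.Spor.TC

/-- A word is trivial. -/
noncomputable def trivOK (w : List ℕ) : Bool := Nat.beq (PackedMat.through ctx mats idMat w) idMat

/-- Some consecutive relators are trivial. -/
noncomputable def groupOK (a n : ℕ) : Bool :=
  (List.range' a n).all fun r => trivOK (powWord (relsG.getD r ([], 0)).1 (relsG.getD r ([], 0)).2)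

end CfsgLib.Spor.Fi22.SeventyEight
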